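import Cfsg.Agent.Lib.Helper9.TCData.U62C1.Main

set_option autoImplicit false
set_option maxRecDepth 1000000

namespace Cfsg.Agent.Helper9.TCData.U62C1
open Cfsg.Agent.Helper9.TC2

theorem m2_44 : allRange 1760 40 (fun u => chkFix tab mwords u) = true := by decide +kernel

theorem m2_45 : allRange 1800 40 (fun u => chkFix tab mwords u) = true := by decide +kernel

theorem m2_46 : allRange 1840 40 (fun u => chkFix tab mwords u) = true := by decide +kernel

theorem m2_47 : allRange 1880 40 (fun u => chkFix tab mwords u) = true := by decide +kernel

theorem m2_48 : allRange 1920 40 (fun u => chkFix tab mwords u) = true := by decide +kernel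

theorem m2_49 : allRange 1960 40 (fun u => chkFix tab mwords u) = true := by decide +kernel

theorem m2_50 : allRange 2000 40 (fun u => chkFix tab mwords u) = true := by decide +kernel

theorem m2_51 : allRange 2040 40 (fun u => chkFix tab mwords u) = true := by decide +kernel


end Cfsg.Agent.Helper9.TCData.U62C1
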