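import Cfsg.Agent.Lib.Helper9.TCData.U62C1.Main

set_option autoImplicit false
set_option maxRecDepth 1000000

namespace Cfsg.Agent.Helper9.TCData.U62C1
open Cfsg.Agent.Helper9.TC2

theorem m2_52 : allRange 2080 40 (fun u => chkFix tab mwords u) = true := by decide +kernel

theorem m2_53 : allRange 2120 40 (fun u => chkFix tab mwords u) = true := by decide +kernel

theorem m2_54 : allRange 2160 40 (fun u => chkFix tab mwords u) = true := by decide +kernel

theorem m2_55 : allRange 2200 40 (fun u => chkFix tab mwords u) = true := by decide +kernel

theorem m2_56 : allRange 2240 40 (fun u => chkFix tab mwords u) = true := by decide +kernel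

theorem m2_57 : allRange 2280 40 (fun u => chkFix tab mwords u) = true := by decide +kernel

theorem m2_58 : allRange 2320 40 (fun u => chkFix tab mwords u) = true := by decide +kernel

theorem m2_59 : allRange 2360 40 (fun u => chkFix tab mwords u) = true := by decide +kernel


end Cfsg.Agent.Helper9.TCData.U62C1
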