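import Cfsg.Agent.Lib.Helper9.TCData.U62C1.Main

set_option autoImplicit false
set_option maxRecDepth 1000000

namespace Cfsg.Agent.Helper9.TCData.U62C1
open Cfsg.Agent.Helper9.TC2

theorem m2_68 : allRange 2720 40 (fun u => chkFix tab mwords u) = true := by decide +kernel

theorem m2_69 : allRange 2760 40 (fun u => chkFix tab mwords u) = true := by decide +kernel

theorem m2_70 : allRange 2800 16 (fun u => chkFix tab mwords u) = true := by decide +kernel


end Cfsg.Agent.Helper9.TCData.U62C1
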