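import Cfsg.Agent.Lib.Helper9.TCData.U62C1.S0
import Cfsg.Agent.Lib.Helper9.TCData.U62C1.S1
import Cfsg.Agent.Lib.Helper9.TCData.U62C1.S2
import Cfsg.Agent.Lib.Helper9.TCData.U62C1.S3
import Cfsg.Agent.Lib.Helper9.TCData.U62C1.S4
import Cfsg.Agent.Lib.Helper9.TCData.U62C1.S5
import Cfsg.Agent.Lib.Helper9.TCData.U62C1.S6
import Cfsg.Agent.Lib.Helper9.TCData.U62C1.S7
import Cfsg.Agent.Lib.Helper9.TCData.U62C1.S8
import Cfsg.Agent.Lib.Helper9.TCData.U62C1.S9
import Cfsg.Agent.Lib.Helper9.TCData.U62C1.S10
import Cfsg.Agent.Lib.Helper9.TCData.U62C1.S11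
import Cfsg.Agent.Lib.Helper9.TCData.U62C1.S12
import Cfsg.Agent.Lib.Helper9.TCData.U62C1.S13
import Cfsg.Agent.Lib.Helper9.TCData.U62C1.S14
import Cfsg.Agent.Lib.Helper9.TCData.U62C1.S15

set_option autoImplicit false
set_option maxRecDepth 1000000

namespace Cfsg.Agent.Helper9.TCData.U62C1
open Cfsg.Agent.Helper9.TC2


theorem hE0 : ∀ u < 2821, chkE tab 0 u = true := by
  have h0 : ∀ u < 0, (fun u => chkE tab 0 u) u = true := range_zero
  have h1 : ∀ u < 2411, (fun u => chkE tab 0 u) u = true := ext_range (a := 0) (len := 2411) h0 e0_0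
  have h2 : ∀ u < 2821, (fun u => chkE tab 0 u) u = true := ext_range (a := 2411) (len := 410) h1 e0_1
  exact h2

theorem hE1 : ∀ u < 2821, chkE tab 1 u = true := by
  have h0 : ∀ u < 0, (fun u => chkE tab 1 u) u = true := range_zero
  have h1 : ∀ u < 2146, (fun u => chkE tab 1 u) u = true := ext_range (a := 0) (len := 2146) h0 e1_0
  have h2 : ∀ u < 2821, (fun u => chkE tab 1 u) u = true := ext_range (a := 2146) (len := 675) h1 e1_1
  exact h2

theorem hE2 : ∀ u < 2821, chkE tab 2 u = true := by
  have h0 : ∀ u < 0, (fun u => chkE tab 2 u) u = true := range_zero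
  have h1 : ∀ u < 2201, (fun u => chkE tab 2 u) u = true := ext_range (a := 0) (len := 2201) h0 e2_0
  have h2 : ∀ u < 2821, (fun u => chkE tab 2 u) u = true := ext_range (a := 2201) (len := 620) h1 e2_1
  exact h2

theorem hE3 : ∀ u < 2821, chkE tab 3 u = true := by
  have h0 : ∀ u < 0, (fun u => chkE tab 3 u) u = true := range_zero
  have h1 : ∀ u < 2100, (fun u => chkE tab 3 u) u = true := ext_range (a := 0) (len := 2100) h0 e3_0
  have h2 : ∀ u < 2821, (fun u => chkE tab 3 u) u = true := ext_range (a := 2100) (len := 721) h1 e3_1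
  exact h2

theorem hE4 : ∀ u < 2821, chkE tab 4 u = true := by
  have h0 : ∀ u < 0, (fun u => chkE tab 4 u) u = true := range_zero
  have h1 : ∀ u < 2158, (fun u => chkE tab 4 u) u = true := ext_range (a := 0) (len := 2158) h0 e4_0
  have h2 : ∀ u < 2821, (fun u => chkE tab 4 u) u = true := ext_range (a := 2158) (len := 663) h1 e4_1
  exact h2

theorem hE5 : ∀ u < 2821, chkE tab 5 u = true := by
  have h0 : ∀ u < 0, (fun u => chkE tab 5 u) u = true := range_zero
  have h1 : ∀ u < 2132, (fun u => chkE tab 5 u) u = true := ext_range (a := 0) (len := 2132) h0 e5_0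
  have h2 : ∀ u < 2821, (fun u => chkE tab 5 u) u = true := ext_range (a := 2132) (len := 689) h1 e5_1
  exact h2

theorem hE6 : ∀ u < 2821, chkE tab 6 u = true := by
  have h0 : ∀ u < 0, (fun u => chkE tab 6 u) u = true := range_zero
  have h1 : ∀ u < 2279, (fun u => chkE tab 6 u) u = true := ext_range (a := 0) (len := 2279) h0 e6_0
  have h2 : ∀ u < 2821, (fun u => chkE tab 6 u) u = true := ext_range (a := 2279) (len := 542) h1 e6_1
  exact h2

theorem hE7 : ∀ u < 2821, chkE tab 7 u = true := by
  have h0 : ∀ u < 0, (fun u => chkE tab 7 u) u = true := range_zero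
  have h1 : ∀ u < 2674, (fun u => chkE tab 7 u) u = true := ext_range (a := 0) (len := 2674) h0 e7_0
  have h2 : ∀ u < 2821, (fun u => chkE tab 7 u) u = true := ext_range (a := 2674) (len := 147) h1 e7_1
  exact h2

theorem hE8 : ∀ u < 2821, chkE tab 8 u = true := by
  have h0 : ∀ u < 0, (fun u => chkE tab 8 u) u = true := range_zero
  have h1 : ∀ u < 2317, (fun u => chkE tab 8 u) u = true := ext_range (a := 0) (len := 2317) h0 e8_0
  have h2 : ∀ u < 2821, (fun u => chkE tab 8 u) u = true := ext_range (a := 2317) (len := 504) h1 e8_1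
  exact h2

theorem hL : ∀ u < 2821, chkL tab u = true := by
  have h0 : ∀ u < 0, (fun u => chkL tab u) u = true := range_zero
  have h1 : ∀ u < 2821, (fun u => chkL tab u) u = true := ext_range (a := 0) (len := 2821) h0 l_0
  exact h1

theorem hF : ∀ u < 2816, chkFin tab u = true := by
  have h0 : ∀ u < 0, (fun u => chkFin tab u) u = true := range_zero
  have h1 : ∀ u < 276, (fun u => chkFin tab u) u = true := ext_range (a := 0) (len := 276) h0 f_0
  have h2 : ∀ u < 552, (fun u => chkFin tab u) u = true := ext_range (a := 276) (len := 276) h1 f_1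
  have h3 : ∀ u < 828, (fun u => chkFin tab u) u = true := ext_range (a := 552) (len := 276) h2 f_2
  have h4 : ∀ u < 1104, (fun u => chkFin tab u) u = true := ext_range (a := 828) (len := 276) h3 f_3
  have h5 : ∀ u < 1380, (fun u => chkFin tab u) u = true := ext_range (a := 1104) (len := 276) h4 f_4
  have h6 : ∀ u < 1656, (fun u => chkFin tab u) u = true := ext_range (a := 1380) (len := 276) h5 f_5
  have h7 : ∀ u < 1932, (fun u => chkFin tab u) u = true := ext_range (a := 1656) (len := 276) h6 f_6
  have h8 : ∀ u < 2208, (fun u => chkFin tab u) u = true := ext_range (a := 1932) (len := 276) h7 f_7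
  have h9 : ∀ u < 2484, (fun u => chkFin tab u) u = true := ext_range (a := 2208) (len := 276) h8 f_8
  have h10 : ∀ u < 2760, (fun u => chkFin tab u) u = true := ext_range (a := 2484) (len := 276) h9 f_9
  have h11 : ∀ u < 2816, (fun u => chkFin tab u) u = true := ext_range (a := 2760) (len := 56) h10 f_10
  exact h11

theorem hC : ∀ u < 2821, chkCls tab u = true := by
  have h0 : ∀ u < 0, (fun u => chkCls tab u) u = true := range_zero
  have h1 : ∀ u < 2667, (fun u => chkCls tab u) u = true := ext_range (a := 0) (len := 2667) h0 c_0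
  have h2 : ∀ u < 2821, (fun u => chkCls tab u) u = true := ext_range (a := 2667) (len := 154) h1 c_1
  exact h2

theorem hM1 : ∀ u < 2816, chkM1 tab u = true := by
  have h0 : ∀ u < 0, (fun u => chkM1 tab u) u = true := range_zero
  have h1 : ∀ u < 708, (fun u => chkM1 tab u) u = true := ext_range (a := 0) (len := 708) h0 m1_0
  have h2 : ∀ u < 1416, (fun u => chkM1 tab u) u = true := ext_range (a := 708) (len := 708) h1 m1_1
  have h3 : ∀ u < 2124, (fun u => chkM1 tab u) u = true := ext_range (a := 1416) (len := 708) h2 m1_2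
  have h4 : ∀ u < 2816, (fun u => chkM1 tab u) u = true := ext_range (a := 2124) (len := 692) h3 m1_3
  exact h4

theorem hM2 : ∀ u < 2816, chkFix tab mwords u = true := by
  have h0 : ∀ u < 0, (fun u => chkFix tab mwords u) u = true := range_zero
  have h1 : ∀ u < 40, (fun u => chkFix tab mwords u) u = true := ext_range (a := 0) (len := 40) h0 m2_0
  have h2 : ∀ u < 80, (fun u => chkFix tab mwords u) u = true := ext_range (a := 40) (len := 40) h1 m2_1
  have h3 : ∀ u < 120, (fun u => chkFix tab mwords u) u = true := ext_range (a := 80) (len := 40) h2 m2_2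
  have h4 : ∀ u < 160, (fun u => chkFix tab mwords u) u = true := ext_range (a := 120) (len := 40) h3 m2_3
  have h5 : ∀ u < 200, (fun u => chkFix tab mwords u) u = true := ext_range (a := 160) (len := 40) h4 m2_4
  have h6 : ∀ u < 240, (fun u => chkFix tab mwords u) u = true := ext_range (a := 200) (len := 40) h5 m2_5
  have h7 : ∀ u < 280, (fun u => chkFix tab mwords u) u = true := ext_range (a := 240) (len := 40) h6 m2_6
  have h8 : ∀ u < 320, (fun u => chkFix tab mwords u) u = true := ext_range (a := 280) (len := 40) h7 m2_7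
  have h9 : ∀ u < 360, (fun u => chkFix tab mwords u) u = true := ext_range (a := 320) (len := 40) h8 m2_8
  have h10 : ∀ u < 400, (fun u => chkFix tab mwords u) u = true := ext_range (a := 360) (len := 40) h9 m2_9
  have h11 : ∀ u < 440, (fun u => chkFix tab mwords u) u = true := ext_range (a := 400) (len := 40) h10 m2_10
  have h12 : ∀ u < 480, (fun u => chkFix tab mwords u) u = true := ext_range (a := 440) (len := 40) h11 m2_11
  have h13 : ∀ u < 520, (fun u => chkFix tab mwords u) u = true := ext_range (a := 480) (len := 40) h12 m2_12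
  have h14 : ∀ u < 560, (fun u => chkFix tab mwords u) u = true := ext_range (a := 520) (len := 40) h13 m2_13
  have h15 : ∀ u < 600, (fun u => chkFix tab mwords u) u = true := ext_range (a := 560) (len := 40) h14 m2_14
  have h16 : ∀ u < 640, (fun u => chkFix tab mwords u) u = true := ext_range (a := 600) (len := 40) h15 m2_15
  have h17 : ∀ u < 680, (fun u => chkFix tab mwords u) u = true := ext_range (a := 640) (len := 40) h16 m2_16
  have h18 : ∀ u < 720, (fun u => chkFix tab mwords u) u = true := ext_range (a := 680) (len := 40) h17 m2_17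
  have h19 : ∀ u < 760, (fun u => chkFix tab mwords u) u = true := ext_range (a := 720) (len := 40) h18 m2_18
  have h20 : ∀ u < 800, (fun u => chkFix tab mwords u) u = true := ext_range (a := 760) (len := 40) h19 m2_19
  have h21 : ∀ u < 840, (fun u => chkFix tab mwords u) u = true := ext_range (a := 800) (len := 40) h20 m2_20
  have h22 : ∀ u < 880, (fun u => chkFix tab mwords u) u = true := ext_range (a := 840) (len := 40) h21 m2_21
  have h23 : ∀ u < 920, (fun u => chkFix tab mwords u) u = true := ext_range (a := 880) (len := 40) h22 m2_22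
  have h24 : ∀ u < 960, (fun u => chkFix tab mwords u) u = true := ext_range (a := 920) (len := 40) h23 m2_23
  have h25 : ∀ u < 1000, (fun u => chkFix tab mwords u) u = true := ext_range (a := 960) (len := 40) h24 m2_24
  have h26 : ∀ u < 1040, (fun u => chkFix tab mwords u) u = true := ext_range (a := 1000) (len := 40) h25 m2_25
  have h27 : ∀ u < 1080, (fun u => chkFix tab mwords u) u = true := ext_range (a := 1040) (len := 40) h26 m2_26
  have h28 : ∀ u < 1120, (fun u => chkFix tab mwords u) u = true := ext_range (a := 1080) (len := 40) h27 m2_27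
  have h29 : ∀ u < 1160, (fun u => chkFix tab mwords u) u = true := ext_range (a := 1120) (len := 40) h28 m2_28
  have h30 : ∀ u < 1200, (fun u => chkFix tab mwords u) u = true := ext_range (a := 1160) (len := 40) h29 m2_29
  have h31 : ∀ u < 1240, (fun u => chkFix tab mwords u) u = true := ext_range (a := 1200) (len := 40) h30 m2_30
  have h32 : ∀ u < 1280, (fun u => chkFix tab mwords u) u = true := ext_range (a := 1240) (len := 40) h31 m2_31
  have h33 : ∀ u < 1320, (fun u => chkFix tab mwords u) u = true := ext_range (a := 1280) (len := 40) h32 m2_32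
  have h34 : ∀ u < 1360, (fun u => chkFix tab mwords u) u = true := ext_range (a := 1320) (len := 40) h33 m2_33
  have h35 : ∀ u < 1400, (fun u => chkFix tab mwords u) u = true := ext_range (a := 1360) (len := 40) h34 m2_34
  have h36 : ∀ u < 1440, (fun u => chkFix tab mwords u) u = true := ext_range (a := 1400) (len := 40) h35 m2_35
  have h37 : ∀ u < 1480, (fun u => chkFix tab mwords u) u = true := ext_range (a := 1440) (len := 40) h36 m2_36
  have h38 : ∀ u < 1520, (fun u => chkFix tab mwords u) u = true := ext_range (a := 1480) (len := 40) h37 m2_37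
  have h39 : ∀ u < 1560, (fun u => chkFix tab mwords u) u = true := ext_range (a := 1520) (len := 40) h38 m2_38
  have h40 : ∀ u < 1600, (fun u => chkFix tab mwords u) u = true := ext_range (a := 1560) (len := 40) h39 m2_39
  have h41 : ∀ u < 1640, (fun u => chkFix tab mwords u) u = true := ext_range (a := 1600) (len := 40) h40 m2_40
  have h42 : ∀ u < 1680, (fun u => chkFix tab mwords u) u = true := ext_range (a := 1640) (len := 40) h41 m2_41
  have h43 : ∀ u < 1720, (fun u => chkFix tab mwords u) u = true := ext_range (a := 1680) (len := 40) h42 m2_42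
  have h44 : ∀ u < 1760, (fun u => chkFix tab mwords u) u = true := ext_range (a := 1720) (len := 40) h43 m2_43
  have h45 : ∀ u < 1800, (fun u => chkFix tab mwords u) u = true := ext_range (a := 1760) (len := 40) h44 m2_44
  have h46 : ∀ u < 1840, (fun u => chkFix tab mwords u) u = true := ext_range (a := 1800) (len := 40) h45 m2_45
  have h47 : ∀ u < 1880, (fun u => chkFix tab mwords u) u = true := ext_range (a := 1840) (len := 40) h46 m2_46
  have h48 : ∀ u < 1920, (fun u => chkFix tab mwords u) u = true := ext_range (a := 1880) (len := 40) h47 m2_47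
  have h49 : ∀ u < 1960, (fun u => chkFix tab mwords u) u = true := ext_range (a := 1920) (len := 40) h48 m2_48
  have h50 : ∀ u < 2000, (fun u => chkFix tab mwords u) u = true := ext_range (a := 1960) (len := 40) h49 m2_49
  have h51 : ∀ u < 2040, (fun u => chkFix tab mwords u) u = true := ext_range (a := 2000) (len := 40) h50 m2_50
  have h52 : ∀ u < 2080, (fun u => chkFix tab mwords u) u = true := ext_range (a := 2040) (len := 40) h51 m2_51
  have h53 : ∀ u < 2120, (fun u => chkFix tab mwords u) u = true := ext_range (a := 2080) (len := 40) h52 m2_52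
  have h54 : ∀ u < 2160, (fun u => chkFix tab mwords u) u = true := ext_range (a := 2120) (len := 40) h53 m2_53
  have h55 : ∀ u < 2200, (fun u => chkFix tab mwords u) u = true := ext_range (a := 2160) (len := 40) h54 m2_54
  have h56 : ∀ u < 2240, (fun u => chkFix tab mwords u) u = true := ext_range (a := 2200) (len := 40) h55 m2_55
  have h57 : ∀ u < 2280, (fun u => chkFix tab mwords u) u = true := ext_range (a := 2240) (len := 40) h56 m2_56
  have h58 : ∀ u < 2320, (fun u => chkFix tab mwords u) u = true := ext_range (a := 2280) (len := 40) h57 m2_57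
  have h59 : ∀ u < 2360, (fun u => chkFix tab mwords u) u = true := ext_range (a := 2320) (len := 40) h58 m2_58
  have h60 : ∀ u < 2400, (fun u => chkFix tab mwords u) u = true := ext_range (a := 2360) (len := 40) h59 m2_59
  have h61 : ∀ u < 2440, (fun u => chkFix tab mwords u) u = true := ext_range (a := 2400) (len := 40) h60 m2_60
  have h62 : ∀ u < 2480, (fun u => chkFix tab mwords u) u = true := ext_range (a := 2440) (len := 40) h61 m2_61
  have h63 : ∀ u < 2520, (fun u => chkFix tab mwords u) u = true := ext_range (a := 2480) (len := 40) h62 m2_62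
  have h64 : ∀ u < 2560, (fun u => chkFix tab mwords u) u = true := ext_range (a := 2520) (len := 40) h63 m2_63
  have h65 : ∀ u < 2600, (fun u => chkFix tab mwords u) u = true := ext_range (a := 2560) (len := 40) h64 m2_64
  have h66 : ∀ u < 2640, (fun u => chkFix tab mwords u) u = true := ext_range (a := 2600) (len := 40) h65 m2_65
  have h67 : ∀ u < 2680, (fun u => chkFix tab mwords u) u = true := ext_range (a := 2640) (len := 40) h66 m2_66
  have h68 : ∀ u < 2720, (fun u => chkFix tab mwords u) u = true := ext_range (a := 2680) (len := 40) h67 m2_67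
  have h69 : ∀ u < 2760, (fun u => chkFix tab mwords u) u = true := ext_range (a := 2720) (len := 40) h68 m2_68
  have h70 : ∀ u < 2800, (fun u => chkFix tab mwords u) u = true := ext_range (a := 2760) (len := 40) h69 m2_69
  have h71 : ∀ u < 2816, (fun u => chkFix tab mwords u) u = true := ext_range (a := 2800) (len := 16) h70 m2_70
  exact h71

theorem hE : ∀ c < 9, ∀ u < 2821, chkE tab c u = true := by
  intro c hc
  interval_cases c
  · exact hE0
  · exact hE1
  · exact hE2
  · exact hE3
  · exact hE4
  · exact hE5
  · exact hE6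
  · exact hE7
  · exact hE8

end Cfsg.Agent.Helper9.TCData.U62C1
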