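import Cfsg.Agent.Lib.Helper9.TC2Cox
import Cfsg.Agent.Lib.Helper9.TC2Aux
import Cfsg.Agent.Lib.Helper9.TC2BSGS
import Cfsg.Agent.Lib.Helper9.TC2Pack
import Cfsg.Agent.Lib.Helper9.TCData.U62C1.P0

set_option autoImplicit false
set_option maxRecDepth 100000

namespace Cfsg.Agent.Helper9.TCData.U62C1
open Cfsg.Agent.Helper9.TC2
/-- The rotated relators. -/
noncomputable def rotT : WT := (WT.node 48 (WT.node 24 (WT.node 12 (WT.node 6 (WT.node 3 (WT.node 1 (WT.leaf [0, 1, 0, 1]) (WT.node 2 (WT.leaf [0, 2, 0, 2]) (WT.leaf [0, 3, 0, 3]))) (WT.node 4 (WT.leaf [0, 6, 0, 6]) (WT.node 5 (WT.leaf [0, 4, 0, 4]) (WT.leaf [0, 7, 0, 7])))) (WT.node 9 (WT.node 7 (WT.leaf [0, 5, 0, 5]) (WT.node 8 (WT.leaf [0, 8, 0, 8]) (WT.leaf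 [1, 2, 1, 2, 1, 2]))) (WT.node 10 (WT.leaf [1, 3, 1, 3]) (WT.node 11 (WT.leaf [1, 6, 1, 6]) (WT.leaf [1, 4, 1, 4]))))) (WT.node 18 (WT.node 15 (WT.node 13 (WT.leaf [1, 7, 1, 7]) (WT.node 14 (WT.leaf [1, 5, 1, 5]) (WT.leaf [1, 8, 1, 8]))) (WT.node 16 (WT.leaf [2, 0, 2, 0]) (WT.node 17 (WT.leaf [2, 3, 2, 3, 2, 3]) (WT.leaf [2, 6, 2, 6, 2, 6])))) (WT.node 21 (WT.node 19 (WT.leaf [2, 4, 2, 4]) (WT.node 20 (WT.leaf [2, 7, 2, 7]) (WT.leaf [2, 5, 2, 5]))) (WT.node 22 (WT.leaf [2, 8, 2, 8]) (WT.node 23 (WT.leaf [2, 1, 2, 1, 2, 1]) (WT.leaf [2, 6, 7, 6, 2, 3, 4, 8, 4, 3, 2, 6, 7, 6, 2, 3, 4, 8, 4, 3, 2, 6, 7, 6, 2, 3, 4, 8, 4, 3])))))) (WT.node 36 (WT.node 30 (WT.node 27 (WT.node 25 (WT.leaf [2, 3, 4, 8, 4, 3, 2, 6, 7,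 6, 2, 3, 4, 8, 4, 3, 2, 6, 7, 6, 2, 3, 4, 8, 4, 3, 2, 6, 7, 6]) (WT.node 26 (WT.leaf [3, 0, 3, 0]) (WT.leaf [3, 1, 3, 1]))) (WT.node 28 (WT.leaf [3, 6, 3, 6]) (WT.node 29 (WT.leaf [3, 4, 3, 4, 3, 4]) (WT.leaf [3, 7, 3, 7])))) (WT.node 33 (WT.node 31 (WT.leaf [3, 5, 3, 5]) (WT.node 32 (WT.leaf [3, 8, 3, 8]) (WT.leaf [3, 2, 3, 2, 3, 2]))) (WT.node 34 (WT.leaf [3, 4, 6, 8, 1, 2, 3, 4, 6, 8, 1, 2, 3, 4, 6, 8, 1, 2, 3, 4, 6, 8, 1, 2, 3, 4, 6, 8, 0, 1, 2]) (WT.node 35 (WT.leaf [3, 4, 5, 6, 7, 1, 2, 3, 4, 5, 6, 7, 1, 2, 3, 4, 5, 6, 7, 1, 2, 3, 4, 5, 6, 7, 1, 2, 3, 4, 5, 6, 7, 1, 2, 3, 4, 5, 6, 7, 1, 2, 3, 4, 5, 6, 7, 1, 2, 3, 4, 5, 6, 7, 1, 2, 3, 4, 5, 6, 7, 1, 2]) (WT.leaf [3, 4, 6, 8, 7, 2, 3, 4, 6, 8, 7, 2, 3, 4, 6,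 8, 7, 2, 3, 4, 6, 8, 7, 2]))))) (WT.node 42 (WT.node 39 (WT.node 37 (WT.leaf [3, 2, 6, 7, 6, 2, 3, 4, 8, 4, 3, 2, 6, 7, 6, 2, 3, 4, 8, 4, 3, 2, 6, 7, 6, 2, 3, 4, 8, 4]) (WT.node 38 (WT.leaf [3, 4, 5, 6, 8, 2, 3, 4, 5, 6, 8, 2, 3, 4, 5, 6, 8, 2, 3, 4, 5, 6, 8, 2, 3, 4, 5, 6, 8, 2]) (WT.leaf [3, 4, 8, 4, 3, 2, 6, 7, 6, 2, 3, 4, 8, 4, 3, 2, 6, 7, 6, 2, 3, 4, 8, 4, 3, 2, 6, 7, 6, 2]))) (WT.node 40 (WT.leaf [4, 0, 4, 0]) (WT.node 41 (WT.leaf [4, 1, 4, 1]) (WT.leaf [4, 2, 4, 2])))) (WT.node 45 (WT.node 43 (WT.leaf [4, 6, 4, 6]) (WT.node 44 (WT.leaf [4, 7, 4, 7]) (WT.leaf [4, 5, 4, 5, 4, 5]))) (WT.node 46 (WT.leaf [4, 8, 4, 8, 4, 8]) (WT.node 47 (WT.leaf [4, 3, 4, 3, 4, 3]) (WT.leaf [4, 6, 8, 7, 2, 3, 4, 6, 8, 7, 2, 3,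 4, 6, 8, 7, 2, 3, 4, 6, 8, 7, 2, 3]))))))) (WT.node 72 (WT.node 60 (WT.node 54 (WT.node 51 (WT.node 49 (WT.leaf [4, 6, 8, 1, 2, 3, 4, 6, 8, 1, 2, 3, 4, 6, 8, 1, 2, 3, 4, 6, 8, 1, 2, 3, 4, 6, 8, 0, 1, 2, 3]) (WT.node 50 (WT.leaf [4, 5, 6, 7, 1, 2, 3, 4, 5, 6, 7, 1, 2, 3, 4, 5, 6, 7, 1, 2, 3, 4, 5, 6, 7, 1, 2, 3, 4, 5, 6, 7, 1, 2, 3, 4, 5, 6, 7, 1, 2, 3, 4, 5, 6, 7, 1, 2, 3, 4, 5, 6, 7, 1, 2, 3, 4, 5, 6, 7, 1, 2, 3]) (WT.leaf [4, 5, 6, 8, 2, 3, 4, 5, 6, 8, 2, 3, 4, 5, 6, 8, 2, 3, 4, 5, 6, 8, 2, 3, 4, 5, 6, 8, 2, 3]))) (WT.node 52 (WT.leaf [4, 3, 2, 6, 7, 6, 2, 3, 4, 8, 4, 3, 2, 6, 7, 6, 2, 3, 4, 8, 4, 3, 2, 6, 7, 6, 2, 3, 4, 8]) (WT.node 53 (WT.leaf [5, 0, 5, 0]) (WT.leaf [5, 1, 5, 1])))) (WT.node 57 (WT.node 55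 (WT.leaf [5, 2, 5, 2]) (WT.node 56 (WT.leaf [5, 3, 5, 3]) (WT.leaf [5, 6, 5, 6]))) (WT.node 58 (WT.leaf [5, 7, 5, 7]) (WT.node 59 (WT.leaf [5, 8, 5, 8]) (WT.leaf [5, 4, 5, 4, 5, 4]))))) (WT.node 66 (WT.node 63 (WT.node 61 (WT.leaf [5, 6, 8, 2, 3, 4, 5, 6, 8, 2, 3, 4, 5, 6, 8, 2, 3, 4, 5, 6, 8, 2, 3, 4, 5, 6, 8, 2, 3, 4]) (WT.node 62 (WT.leaf [5, 6, 7, 1, 2, 3, 4, 5, 6, 7, 1, 2, 3, 4, 5, 6, 7, 1, 2, 3, 4, 5, 6, 7, 1, 2, 3, 4, 5, 6, 7, 1, 2, 3, 4, 5, 6, 7, 1, 2, 3, 4, 5, 6, 7, 1, 2, 3, 4, 5, 6, 7, 1, 2, 3, 4, 5, 6, 7, 1, 2, 3, 4]) (WT.leaf [6, 0, 6, 0]))) (WT.node 64 (WT.leaf [6, 1, 6, 1]) (WT.node 65 (WT.leaf [6, 7, 6, 7, 6, 7]) (WT.leaf [6, 8, 6, 8])))) (WT.node 69 (WT.node 67 (WT.leaf [6, 2, 6, 2, 6, 2]) (WT.node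 68 (WT.leaf [6, 4, 6, 4]) (WT.leaf [6, 3, 6, 3]))) (WT.node 70 (WT.leaf [6, 5, 6, 5]) (WT.node 71 (WT.leaf [6, 8, 7, 2, 3, 4, 6, 8, 7, 2, 3, 4, 6, 8, 7, 2, 3, 4, 6, 8, 7, 2, 3, 4]) (WT.leaf [6, 8, 2, 3, 4, 5, 6, 8, 2, 3, 4, 5, 6, 8, 2, 3, 4, 5, 6, 8, 2, 3, 4, 5, 6, 8, 2, 3, 4, 5])))))) (WT.node 84 (WT.node 78 (WT.node 75 (WT.node 73 (WT.leaf [6, 8, 1, 2, 3, 4, 6, 8, 1, 2, 3, 4, 6, 8, 1, 2, 3, 4, 6, 8, 1, 2, 3, 4, 6, 8, 0, 1, 2, 3, 4]) (WT.node 74 (WT.leaf [6, 2, 3, 4, 8, 4, 3, 2, 6, 7, 6, 2, 3, 4, 8, 4, 3, 2, 6, 7, 6, 2, 3, 4, 8, 4, 3, 2, 6, 7]) (WT.leaf [6, 7, 1, 2, 3, 4, 5, 6, 7, 1, 2, 3, 4, 5, 6, 7, 1, 2, 3, 4, 5, 6, 7, 1, 2, 3, 4, 5, 6, 7, 1, 2, 3, 4, 5, 6, 7, 1, 2, 3, 4, 5, 6, 7, 1, 2, 3, 4, 5, 6, 7, 1, 2,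 3, 4, 5, 6, 7, 1, 2, 3, 4, 5]))) (WT.node 76 (WT.leaf [7, 0, 7, 0]) (WT.node 77 (WT.leaf [7, 1, 7, 1]) (WT.leaf [7, 2, 7, 2])))) (WT.node 81 (WT.node 79 (WT.leaf [7, 3, 7, 3]) (WT.node 80 (WT.leaf [7, 4, 7, 4]) (WT.leaf [7, 5, 7, 5]))) (WT.node 82 (WT.leaf [7, 8, 7, 8, 7, 8]) (WT.node 83 (WT.leaf [7, 6, 7, 6, 7, 6]) (WT.leaf [7, 2, 3, 4, 6, 8, 7, 2, 3, 4, 6, 8, 7, 2, 3, 4, 6, 8, 7, 2, 3, 4, 6, 8]))))) (WT.node 90 (WT.node 87 (WT.node 85 (WT.leaf [7, 6, 2, 3, 4, 8, 4, 3, 2, 6, 7, 6, 2, 3, 4, 8, 4, 3, 2, 6, 7, 6, 2, 3, 4, 8, 4, 3, 2, 6]) (WT.node 86 (WT.leaf [8, 0, 8, 0]) (WT.leaf [8, 1, 8, 1]))) (WT.node 88 (WT.leaf [8, 2, 8, 2]) (WT.node 89 (WT.leaf [8, 3, 8, 3]) (WT.leaf [8, 6, 8, 6])))) (WT.node 93 (WT.node 91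 (WT.leaf [8, 7, 8, 7, 8, 7]) (WT.node 92 (WT.leaf [8, 4, 8, 4, 8, 4]) (WT.leaf [8, 1, 2, 3, 4, 6, 8, 1, 2, 3, 4, 6, 8, 1, 2, 3, 4, 6, 8, 1, 2, 3, 4, 6, 8, 0, 1, 2, 3, 4, 6]))) (WT.node 95 (WT.node 94 (WT.leaf [8, 5, 8, 5]) (WT.leaf [8, 2, 3, 4, 5, 6, 8, 2, 3, 4, 5, 6, 8, 2, 3, 4, 5, 6, 8, 2, 3, 4, 5, 6, 8, 2, 3, 4, 5, 6])) (WT.node 96 (WT.leaf [8, 7, 2, 3, 4, 6, 8, 7, 2, 3, 4, 6, 8, 7, 2, 3, 4, 6, 8, 7, 2, 3, 4, 6]) (WT.leaf [8, 4, 3, 2, 6, 7, 6, 2, 3, 4, 8, 4, 3, 2, 6, 7, 6, 2, 3, 4, 8, 4, 3, 2, 6, 7, 6, 2, 3, 4]))))))))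

/-- The sources of the rotated relators: relator and rotation. -/
def rotSrc : List (ℕ × ℕ) := [(1, 2), (2, 2), (3, 2), (6, 2), (4, 2), (7, 2), (5, 2), (8, 2), (11, 2), (12, 2), (15, 2), (13, 2), (16, 2), (14, 2), (17, 2), (2, 1), (21, 2), (24, 2), (22, 2), (25, 2), (23, 2), (26, 2), (11, 1), (81, 3), (81, 7), (3, 1), (12, 1), (33, 2), (31, 2), (34, 2), (32, 2), (35, 2), (21, 1), (84, 3), (85, 58), (82, 19), (81, 2), (83, 1), (81, 8), (4, 1), (13, 1), (22, 1), (42, 2), (43, 2), (41, 2), (44, 2), (31, 1), (82, 2), (84, 4), (85, 3), (83, 2), (81, 1), (5, 1), (14, 1), (23, 1), (32, 1), (51, 2), (52, 2), (53, 2), (41, 1), (83, 3), (85, 4), (6, 1), (15, 1), (61, 2), (62, 2), (24, 1), (42, 1), (33, 1), (51, 1), (82,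 3), (83, 4), (84, 5), (81, 6), (85, 5), (7, 1), (16, 1), (25, 1), (34, 1), (43, 1), (52, 1), (71, 2), (61, 1), (82, 5), (81, 5), (8, 1), (17, 1), (26, 1), (35, 1), (62, 1), (71, 1), (44, 1), (84, 6), (53, 1), (83, 5), (82, 4), (81, 10)]

/-- The relators, as words of columns. -/
def relWords : List (List ℕ) := [[0, 0], [0, 1, 0, 1], [0, 2, 0, 2], [0, 3, 0, 3], [0, 4, 0, 4], [0, 5, 0, 5], [0, 6, 0, 6], [0, 7, 0, 7], [0, 8, 0, 8], [1, 0, 1, 0], [1, 1], [1, 2, 1, 2, 1, 2], [1, 3, 1, 3], [1, 4, 1, 4], [1, 5, 1, 5], [1, 6, 1, 6], [1, 7, 1, 7], [1, 8, 1, 8], [2, 0, 2, 0], [2, 1, 2, 1, 2, 1], [2, 2], [2, 3, 2, 3, 2, 3], [2, 4, 2, 4], [2, 5, 2, 5], [2, 6, 2, 6, 2, 6], [2, 7, 2, 7], [2, 8, 2, 8], [3, 0, 3, 0], [3, 1, 3,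 1], [3, 2, 3, 2, 3, 2], [3, 3], [3, 4, 3, 4, 3, 4], [3, 5, 3, 5], [3, 6, 3, 6], [3, 7, 3, 7], [3, 8, 3, 8], [4, 0, 4, 0], [4, 1, 4, 1], [4, 2, 4, 2], [4, 3, 4, 3, 4, 3], [4, 4], [4, 5, 4, 5, 4, 5], [4, 6, 4, 6], [4, 7, 4, 7], [4, 8, 4, 8, 4, 8], [5, 0, 5, 0], [5, 1, 5, 1], [5, 2, 5, 2], [5, 3, 5, 3], [5, 4, 5, 4, 5, 4], [5, 5], [5, 6, 5, 6], [5, 7, 5, 7], [5, 8, 5, 8], [6, 0, 6, 0], [6, 1, 6, 1], [6, 2, 6, 2, 6, 2], [6, 3, 6, 3], [6, 4, 6, 4], [6, 5, 6, 5], [6, 6], [6, 7, 6, 7, 6, 7], [6, 8, 6, 8], [7, 0, 7, 0], [7, 1, 7, 1], [7, 2, 7, 2], [7, 3, 7, 3], [7, 4, 7, 4], [7, 5, 7, 5], [7, 6, 7, 6, 7, 6], [7, 7], [7, 8, 7, 8, 7, 8], [8, 0, 8, 0], [8, 1, 8, 1], [8, 2, 8, 2], [8, 3, 8, 3], [8, 4, 8, 4, 8, 4], [8, 5, 8,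 5], [8, 6, 8, 6], [8, 7, 8, 7, 8, 7], [8, 8], [8, 4, 3, 2, 6, 7, 6, 2, 3, 4, 8, 4, 3, 2, 6, 7, 6, 2, 3, 4, 8, 4, 3, 2, 6, 7, 6, 2, 3, 4], [2, 3, 4, 6, 8, 7, 2, 3, 4, 6, 8, 7, 2, 3, 4, 6, 8, 7, 2, 3, 4, 6, 8, 7], [2, 3, 4, 5, 6, 8, 2, 3, 4, 5, 6, 8, 2, 3, 4, 5, 6, 8, 2, 3, 4, 5, 6, 8, 2, 3, 4, 5, 6, 8], [0, 1, 2, 3, 4, 6, 8, 1, 2, 3, 4, 6, 8, 1, 2, 3, 4, 6, 8, 1, 2, 3, 4, 6, 8, 1, 2, 3, 4, 6, 8], [1, 2, 3, 4, 5, 6, 7, 1, 2, 3, 4, 5, 6, 7, 1, 2, 3, 4, 5, 6, 7, 1, 2, 3, 4, 5, 6, 7, 1, 2, 3, 4, 5, 6, 7, 1, 2, 3, 4, 5, 6, 7, 1, 2, 3, 4, 5, 6, 7, 1, 2, 3, 4, 5, 6, 7, 1, 2, 3, 4, 5, 6, 7]]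

/-- The words checked on the permutation model. -/
def mwords : List (List ℕ) := [[0, 1, 0, 1], [0, 2, 0, 2], [0, 3, 0, 3], [0, 4, 0, 4], [0, 5, 0, 5], [0, 6, 0, 6], [0, 7, 0, 7], [0, 8, 0, 8], [1, 2, 1, 2, 1, 2], [1, 3, 1, 3], [1, 4, 1, 4], [1, 5, 1, 5], [1, 6, 1, 6], [1, 7, 1, 7], [1, 8, 1, 8], [2, 3, 2, 3, 2, 3], [2, 4, 2, 4], [2, 5, 2, 5], [2, 6, 2, 6, 2, 6], [2, 7, 2, 7], [2, 8, 2, 8], [3, 4, 3, 4, 3, 4], [3, 5, 3, 5], [3, 6, 3, 6], [3, 7, 3, 7], [3, 8, 3, 8], [4, 5, 4, 5, 4, 5], [4, 6, 4, 6], [4, 7, 4, 7], [4, 8, 4, 8, 4, 8], [5, 6, 5, 6], [5, 7, 5, 7], [5, 8, 5, 8], [6, 7, 6, 7, 6, 7], [6, 8, 6, 8], [7, 8, 7, 8, 7, 8], [8, 4, 3, 2, 6, 7, 6, 2, 3, 4, 8, 4, 3, 2, 6, 7, 6, 2, 3, 4, 8, 4, 3, 2, 6, 7, 6, 2,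 3, 4], [2, 3, 4, 6, 8, 7, 2, 3, 4, 6, 8, 7, 2, 3, 4, 6, 8, 7, 2, 3, 4, 6, 8, 7], [2, 3, 4, 5, 6, 8, 2, 3, 4, 5, 6, 8, 2, 3, 4, 5, 6, 8, 2, 3, 4, 5, 6, 8, 2, 3, 4, 5, 6, 8], [0, 1, 2, 3, 4, 6, 8, 1, 2, 3, 4, 6, 8, 1, 2, 3, 4, 6, 8, 1, 2, 3, 4, 6, 8, 1, 2, 3, 4, 6, 8], [1, 2, 3, 4, 5, 6, 7, 1, 2, 3, 4, 5, 6, 7, 1, 2, 3, 4, 5, 6, 7, 1, 2, 3, 4, 5, 6, 7, 1, 2, 3, 4, 5, 6, 7, 1, 2, 3, 4, 5, 6, 7, 1, 2, 3, 4, 5, 6, 7, 1, 2, 3, 4, 5, 6, 7, 1, 2, 3, 4, 5, 6, 7]]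

/-- The table. -/
noncomputable def tab : Tab where
  k := 9
  inv := fun c => c
  N := 2821
  n := 2816
  Tmax := 25375
  wn := 12
  mn := 0xfff
  subs := [[2], [3], [4], [5], [6], [7], [8]]
  rot := fun i => rotT.getF i
  ent := fun c i => bget2 entT_0 3 9 27 0x7ffffff 511 c i
  cer := fun c i => bget2 cerT_0 2 10 14 0x3fff 1023 c i
  tau := fun c i => bget2 tauT_0 2 10 12 0xfff 1023 c i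
  lk := fun i => bget lkT_0 9 26 0x3ffffff 511 i
  lc := fun i => bget lcT_0 9 27 0x7ffffff 511 i
  pn := fun i => bget pnT_0 10 16 0xffff 1023 i
  cls := fun i => bget clsT_0 10 12 0xfff 1023 i
  rep := fun i => bget repT_0 10 12 0xfff 1023 i

end Cfsg.Agent.Helper9.TCData.U62C1
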